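import Groth.Agent.Lib.Helper19.LocDim.Formula
import Groth.Agent.Lib.Helper19.FldSp.Points
import Groth.Agent.Lib.Helper14.FibreComp
import Groth.Agent.Lib.Helper15.QFDiscrete
import Groth.Agent.Lib.Helper16.Sch.QFCodim

/-!
# Quasi-finiteness over points of codimension at most one
-/

set_option autoImplicit false
set_option linter.style.haveILetI false
universe u
open CategoryTheory CategoryTheory.Limits AlgebraicGeometry MorphismProperty TopologicalSpace
open AlgSp Groth.Agent.Helper15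

namespace Groth.Agent.Helper19.QfCodim

open Groth.Agent.Helper14

section scheme

theorem eq_zero_of_add_natCast_le_one (A : WithBot ℕ∞) (hA : 0 ≤ A) (n : ℕ) (hn : 1 ≤ n)
    (h : A + (n : WithBot ℕ∞) ≤ 1) : A = 0 := by
  induction A using WithBot.recBotCoe with
  | bot => exact absurd hA (by simp)
  | coe a =>
    induction a using ENat.recTopCoe with
    | top =>
      exfalso
      have h1 : ((⊤ : ℕ∞) : WithBot ℕ∞) + ((n : ℕ∞) : WithBot ℕ∞) ≤ ((1 : ℕ∞) : WithBot ℕ∞) := h
      rw [← WithBot.coe_add, WithBot.coe_le_coe, top_add] at h1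
      exact absurd h1 (by simp)
    | coe m =>
      have h1 : (((m : ℕ∞)) : WithBot ℕ∞) + ((n : ℕ∞) : WithBot ℕ∞) ≤ ((1 : ℕ∞) : WithBot ℕ∞) := h
      rw [← WithBot.coe_add, WithBot.coe_le_coe] at h1
      have h2 : m + n ≤ 1 := by exact_mod_cast h1
      have : m = 0 := by omega
      subst this
      rfl

variable {U V : Scheme.{u}} (φ : U ⟶ V)

/-- if all points of the fibre through `u` have residue field algebraic over `κ(φ u)`, then `φ`
is quasi-finite at `u` -/
theorem quasiFiniteAt_of_forall_resTrdeg_eq_zero [LocallyOfFiniteType φ] (u : U)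
    (h0 : ∀ u' : U, φ u' = φ u → Dual3.resTrdeg φ u' = 0) : φ.QuasiFiniteAt u := by
  rw [Scheme.Hom.quasiFiniteAt_iff_isOpen_singleton_asFiber]
  let K := V.residueField (φ u)
  let g : φ.fiber (φ u) ⟶ Spec (CommRingCat.of K) := φ.fiberToSpecResidueField (φ u)
  haveI : LocallyOfFiniteType g := by
    show LocallyOfFiniteType (φ.fiberToSpecResidueField (φ u))
    exact MorphismProperty.pullback_snd _ _ inferInstance
  haveI : IsLocallyNoetherian (φ.fiber (φ u)) := LocallyOfFiniteType.isLocallyNoetherian g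
  have hcl : ∀ z ∈ (⊤ : (φ.fiber (φ u)).Opens), IsClosed ({z} : Set (φ.fiber (φ u))) := by
    intro z _
    refine Groth.Agent.Helper19.FldSp.isClosed_singleton_of_resTrdeg_eq_zero g z ?_
    have hz : φ (φ.fiberι (φ u) z) = φ u := (φ.fiberHomeo (φ u) z).2
    have h1 := h0 _ hz
    have h2 := FibreComp.trdeg_fibre φ (φ u) z
    have h1' : @Algebra.trdeg (V.residueField (φ (φ.fiberι (φ u) z)))
        (U.residueField (φ.fiberι (φ u) z)) _ _
        (φ.residueFieldMap (φ.fiberι (φ u) z)).hom.toAlgebra = 0 := h1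
    rw [h2] at h1'
    exact h1'
  exact QFDiscrete.isOpen_singleton_of_forall_isClosed ⊤ hcl (φ.asFiber u) trivial

end scheme

variable {S : Scheme.{u}}

theorem etInv_ringKrullDim_stalk_le (d : WithBot ℕ∞) :
    EtInv (fun U u => ringKrullDim ↥(U.presheaf.stalk u) ≤ d) := by
  intro W U g hg w
  haveI := hg
  change ringKrullDim ↥(W.presheaf.stalk w) ≤ d ↔ ringKrullDim ↥(U.presheaf.stalk (g w)) ≤ d
  rw [ringKrullDim_stalk_eq_of_etale g w]

/-- S10455 at the level of sheaves -/
theorem qfAt_of_trdeg_zero {X Y : Sp S} (hX : IsAlgSpace X) (hY : IsAlgSpace Y) (f : X ⟶ Y)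
    (hf : LocP @LocallyOfFiniteType f) (hYn : IsLocNoethSp Y) (y : Points Y)
    (hy : HasAt (fun U u => ringKrullDim ↥(U.presheaf.stalk u) ≤ 1) Y y)
    (h : ∀ x : Points X, HasAt (fun U u => ringKrullDim ↥(U.presheaf.stalk u) = 0) X x →
      Points.map f x ⤳ y → HasAtMor (fun _ _ h u => Dual3.resTrdeg h u = 0) f x)
    (x : Points X) (hx : Points.map f x = y) :
    HasAtMor (fun U _ h u => ∃ W : U.Opens, u ∈ W ∧ LocallyQuasiFinite (W.ι ≫ h) ∧
      LocallyOfFiniteType (W.ι ≫ h)) f x := by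
  obtain ⟨U, V, a, b, φ, u, ha, hb, comm, hxu, hlft⟩ := Trdeg.exists_chart_at hX hY f hf x
  haveI : LocallyOfFiniteType φ.left := hlft
  haveI : IsLocallyNoetherian V.left := isLocallyNoetherian_of_etale_of_isLocNoethSp hYn b hb
  have hv : Points.ofPt b (φ.left u) = y := by
    rw [Groth.Agent.Helper19.LocDim.ofPt_chart_image f a b φ comm u, hxu, hx]
  have hdimv : ringKrullDim ↥(V.left.presheaf.stalk (φ.left u)) ≤ 1 :=
    hasAt_forall_chart (etInv_ringKrullDim_stalk_le 1) y hy V b _ hb hv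
  -- Claim A
  have hA : ∀ u' : U.left, φ.left u' = φ.left u → Dual3.resTrdeg φ.left u' = 0 := by
    intro u' hu'
    have hgen : ∀ ξ : U.left, ξ ⤳ u' → ringKrullDim ↥(U.left.presheaf.stalk ξ) = 0 →
        Dual3.resTrdeg φ.left ξ = 0 := by
      intro ξ hsp hdim
      have hsp' : Points.map f (Points.ofPt a ξ) ⤳ y := by
        rw [← Groth.Agent.Helper19.LocDim.ofPt_chart_image f a b φ comm ξ, ← hv, ← hu']
        exact (hsp.map φ.left.continuous).map (Points.continuous_ofPt b)
      have h1 := h (Points.ofPt a ξ) ⟨U, a, ξ, ha, rfl, hdim⟩ hsp'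
      exact Trdeg.hasAtMor_resTrdeg_unique f (Points.ofPt a ξ) _ _
        ⟨U, V, a, b, φ, ξ, ha, hb, comm, rfl, rfl⟩ h1
    have key := Groth.Agent.Helper19.LocDim.chart_dim_formula φ.left u' 0
      (fun ξ hsp hdim => (hgen ξ hsp hdim).le)
    obtain ⟨n, hn⟩ := ResFieldBridge.exists_nat_trdeg_residueField φ.left u'
    have hn' : Dual3.resTrdeg φ.left u' = (n : Cardinal.{u}) := hn
    by_contra hne
    have hn1 : 1 ≤ n := by
      rcases Nat.eq_zero_or_pos n with h0 | h0
      · exfalso; apply hne; rw [hn', h0]; simp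
      · exact h0
    rw [hn', hu'] at key
    have key' : ringKrullDim ↥(U.left.presheaf.stalk u') + (n : WithBot ℕ∞) ≤ 1 := by
      have : ringKrullDim ↥(U.left.presheaf.stalk u') + (n : WithBot ℕ∞) ≤
          ringKrullDim ↥(V.left.presheaf.stalk (φ.left u)) := by simpa using key
      exact this.trans hdimv
    have hzero := eq_zero_of_add_natCast_le_one _ ringKrullDim_nonneg_of_nontrivial n hn1 key'
    exact hne (hgen u' specializes_rfl hzero)
  have hqf : φ.left.QuasiFiniteAt u := quasiFiniteAt_of_forall_resTrdeg_eq_zero φ.left u hA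
  obtain ⟨W, huW, hW1, hW2⟩ :=
    (Groth.Agent.Helper16.QFCodim.quasiFiniteAt_iff_exists_opens φ.left u).1 hqf
  exact ⟨U, V, a, b, φ, u, ha, hb, comm, hxu, W, huW, hW1, hW2⟩

end Groth.Agent.Helper19.QfCodim
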