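import Groth.Agent.Lib.Helper19.QfCodim.Core
import Groth.Agent.Lib.Helper14.CondXC
import Groth.Agent.Lib.Helper15.ChartBC
import Groth.Agent.Lib.Helper15.TrdegComp

/-!
# Quasi-finiteness over points of codimension at most one: variants
-/

set_option autoImplicit false
set_option linter.style.haveILetI false
universe u
open CategoryTheory CategoryTheory.Limits AlgebraicGeometry MorphismProperty TopologicalSpace
open AlgSp Groth.Agent.Helper15

namespace Groth.Agent.Helper19.QfCodim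

open Groth.Agent.Helper14

variable {S : Scheme.{u}}

/-- quasi-finite at a point implies transcendence degree zero there -/
theorem hasAtMor_resTrdeg_zero_of_qfAt {X Y : Sp S} (f : X ⟶ Y) (x : Points X)
    (hq : HasAtMor (fun U _ h u => ∃ W : U.Opens, u ∈ W ∧ LocallyQuasiFinite (W.ι ≫ h) ∧
      LocallyOfFiniteType (W.ι ≫ h)) f x) :
    HasAtMor (fun _ _ h u => Dual3.resTrdeg h u = 0) f x := by
  obtain ⟨U, V, a, b, φ, u, ha, hb, comm, hxu, W, huW, hW1, -⟩ := hq
  haveI := hW1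
  have h0 := Trdeg.resTrdeg_eq_zero_of_locallyQuasiFinite (W.ι ≫ φ.left) ⟨u, huW⟩
  rw [Trdeg.resTrdeg_comp] at h0
  exact ⟨U, V, a, b, φ, u, ha, hb, comm, hxu, (add_eq_zero.mp h0).1⟩

/-- S10503 at the level of sheaves -/
theorem qfAt_of_qfAt_codimZero {X Y : Sp S} (hX : IsAlgSpace X) (hY : IsAlgSpace Y) (f : X ⟶ Y)
    (hf : LocP @LocallyOfFiniteType f) (hYn : IsLocNoethSp Y) (y : Points Y)
    (hy : HasAt (fun U u => ringKrullDim ↥(U.presheaf.stalk u) ≤ 1) Y y)
    (h : ∀ x : Points X, HasAt (fun U u => ringKrullDim ↥(U.presheaf.stalk u) = 0) X x →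
      HasAtMor (fun U _ h u => ∃ W : U.Opens, u ∈ W ∧ LocallyQuasiFinite (W.ι ≫ h) ∧
        LocallyOfFiniteType (W.ι ≫ h)) f x)
    (x : Points X) (hx : Points.map f x = y) :
    HasAtMor (fun U _ h u => ∃ W : U.Opens, u ∈ W ∧ LocallyQuasiFinite (W.ι ≫ h) ∧
      LocallyOfFiniteType (W.ι ≫ h)) f x :=
  qfAt_of_trdeg_zero hX hY f hf hYn y hy
    (fun x' hx0 _ => hasAtMor_resTrdeg_zero_of_qfAt f x' (h x' hx0)) x hx

/-- a dense open subset of the points of a locally Noetherian algebraic space contains all points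
of codimension zero -/
theorem mem_of_dense_open_of_codimZero {X : Sp S} (hXn : IsLocNoethSp X) (Q : Set (Points X))
    (hQo : IsOpen Q) (hQd : Dense Q) (x : Points X)
    (hx : HasAt (fun U u => ringKrullDim ↥(U.presheaf.stalk u) = 0) X x) : x ∈ Q := by
  obtain ⟨U, a, u, ha, hu, hdim⟩ := hx
  haveI : IsLocallyNoetherian U.left := isLocallyNoetherian_of_etale_of_isLocNoethSp hXn a ha
  have hmax : ∀ z' ∈ (Set.univ : Set U.left), z' ⤳ u → z' = u := by
    intro z' _ hz'
    rw [ringKrullDim_stalk_eq_coheight] at hdim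
    have hd' : Order.coheight u = 0 := by exact_mod_cast hdim
    rw [Order.coheight_eq_zero] at hd'
    have h1 : u ≤ z' := hz'
    have h2 : z' ≤ u := hd' h1
    have h2' : u ⤳ z' := h2
    exact (hz'.antisymm h2').eq
  obtain ⟨X₀, huX₀, hX₀⟩ := CondX.exists_opens_forall_specializes (Set.univ : Set U.left)
    isClosed_univ u hmax
  have hQ'o : IsOpen (Points.ofPt a ⁻¹' Q) := hQo.preimage (Points.continuous_ofPt a)
  have hQ'd : Dense (Points.ofPt a ⁻¹' Q) := hQd.preimage (isOpenMap_ofPt_of_etale a ha)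
  obtain ⟨z, hzX₀, hzQ⟩ := hQ'd.inter_open_nonempty X₀ X₀.2 ⟨u, huX₀⟩
  have hs : u ⤳ z := hX₀ z hzX₀ trivial
  have : u ∈ Points.ofPt a ⁻¹' Q := hs.mem_open hQ'o hzQ
  rw [← hu]
  exact this

/-- S10456 at the level of sheaves -/
theorem qfAt_of_dense_qf {X Y : Sp S} (hX : IsAlgSpace X) (hY : IsAlgSpace Y) (f : X ⟶ Y)
    (hf : LocP @LocallyOfFiniteType f) (hYn : IsLocNoethSp Y) (y : Points Y)
    (hy : HasAt (fun U u => ringKrullDim ↥(U.presheaf.stalk u) ≤ 1) Y y)
    (h : Dense {x : Points X | HasAtMor (fun U _ h u => ∃ W : U.Opens, u ∈ W ∧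
      LocallyQuasiFinite (W.ι ≫ h) ∧ LocallyOfFiniteType (W.ι ≫ h)) f x})
    (x : Points X) (hx : Points.map f x = y) :
    HasAtMor (fun U _ h u => ∃ W : U.Opens, u ∈ W ∧ LocallyQuasiFinite (W.ι ≫ h) ∧
      LocallyOfFiniteType (W.ι ≫ h)) f x := by
  have hXn : IsLocNoethSp X := isLocNoethSp_of_locP_lft hX f hf hYn
  have hopen := ChartBC.isOpen_setOf_hasAtMor_nbhd
    (fun _ _ g => LocallyQuasiFinite g ∧ LocallyOfFiniteType g) f
  exact qfAt_of_qfAt_codimZero hX hY f hf hYn y hy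
    (fun x' hx0 => mem_of_dense_open_of_codimZero hXn _ hopen h x' hx0) x hx

end Groth.Agent.Helper19.QfCodim
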